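import Mathlib

/-!
# Quasi-finite algebras: element data near a prime (helper29, for S1480)
-/

set_option autoImplicit false
universe u

open TensorProduct

namespace Groth.Agent.Lib.Helper29.FlatLqf

variable {A B : Type u} [CommRing A] [CommRing B] [Algebra A B]

/-- The annihilator in `A` of an element of an `A`-algebra `B`. -/
def annIdeal (g : B) : Ideal A := LinearMap.ker (LinearMap.toSpanSingleton A B g)

@[simp] theorem mem_annIdeal {g : B} {α : A} : α ∈ annIdeal (A := A) g ↔ α • g = 0 := by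
  simp [annIdeal, LinearMap.mem_ker]

/-- kernel of `B → κ(s) ⊗ B`. -/
theorem exists_smul_mem_of_one_tmul_eq_zero (s : Ideal A) [s.IsPrime] (z : B)
    (hz : (1 : s.ResidueField) ⊗ₜ[A] z = 0) : ∃ t ∉ s, t • z ∈ s.map (algebraMap A B) := by
  let _ : Algebra B (s.Fiber B) := Algebra.TensorProduct.rightAlgebra
  let e := Ideal.Fiber.algEquivAux₁ (S := B) s
  have h1 : e (algebraMap B (s.Fiber B) z) = 0 := by
    have : algebraMap B (s.Fiber B) z = (1 : s.ResidueField) ⊗ₜ[A] z := rfl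
    rw [this, hz, map_zero]
  rw [AlgEquiv.commutes, IsScalarTower.algebraMap_apply B
    (Localization (Algebra.algebraMapSubmonoid B s.primeCompl)), Ideal.Quotient.algebraMap_eq,
    Ideal.Quotient.eq_zero_iff_mem,
    IsLocalization.mem_map_algebraMap_iff (Algebra.algebraMapSubmonoid B s.primeCompl)] at h1
  obtain ⟨⟨⟨i, hi⟩, ⟨m, hm⟩⟩, h2⟩ := h1
  simp only at h2
  rw [← map_mul, IsLocalization.eq_iff_exists (Algebra.algebraMapSubmonoid B s.primeCompl)] at h2
  obtain ⟨⟨c, hc⟩, h3⟩ := h2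
  simp only at h3
  obtain ⟨t1, ht1, rfl⟩ := hm
  obtain ⟨t2, ht2, rfl⟩ := hc
  refine ⟨t2 * t1, s.primeCompl.mul_mem ht2 ht1, ?_⟩
  have : (t2 * t1) • z = algebraMap A B t2 * i := by
    rw [Algebra.smul_def, map_mul, ← h3]; ring
  rw [this]
  exact Ideal.mul_mem_left _ _ hi

/-- every element of the residue field at `s` is a fraction. -/
theorem exists_smul_eq_algebraMap_residueField (s : Ideal A) [s.IsPrime] (c : s.ResidueField) :
    ∃ t ∉ s, ∃ α : A, t • c = algebraMap A s.ResidueField α := by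
  obtain ⟨y, rfl⟩ := IsLocalRing.residue_surjective c
  obtain ⟨α, ⟨t, ht⟩, rfl⟩ := IsLocalization.exists_mk'_eq s.primeCompl y
  refine ⟨t, ht, α, ?_⟩
  rw [IsScalarTower.algebraMap_apply A (Localization.AtPrime s) s.ResidueField,
    ← IsLocalization.smul_mk'_self (S := Localization.AtPrime s) (m := ⟨t, ht⟩) (r := α),
    IsLocalRing.ResidueField.algebraMap_eq, Algebra.smul_def, Algebra.smul_def,
    IsScalarTower.algebraMap_apply A (Localization.AtPrime s) s.ResidueField,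
    IsLocalRing.ResidueField.algebraMap_eq, map_mul]

/-- Fibre finiteness in elementwise form. -/
theorem exists_smul_mem_span_sup [Algebra.QuasiFinite A B] (s : Ideal A) [s.IsPrime] :
    ∃ T : Finset B, (1 : B) ∈ T ∧ ∀ x : B, ∃ t ∉ s,
      t • x ∈ Submodule.span A (T : Set B) ⊔ s • (⊤ : Submodule A B) := by
  classical
  let κ := s.ResidueField
  let ι : B → s.Fiber B := fun b => (1 : κ) ⊗ₜ[A] b
  have hspan : Submodule.span κ (Set.range ι) = ⊤ := by
    rw [eq_top_iff]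
    rintro x -
    induction x using TensorProduct.induction_on with
    | zero => exact zero_mem _
    | tmul c b =>
      have : c ⊗ₜ[A] b = c • ι b := by
        simp only [ι, TensorProduct.smul_tmul', smul_eq_mul, mul_one]
      rw [this]
      exact Submodule.smul_mem _ _ (Submodule.subset_span ⟨b, rfl⟩)
    | add x y hx hy => exact add_mem hx hy
  have hfg : (Submodule.span κ (Set.range ι)).FG := by
    rw [hspan]; exact Module.Finite.fg_top
  obtain ⟨s', hs', hs'2⟩ := (Submodule.fg_span_iff_fg_span_finset_subset _).mp hfg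
  rw [← Set.image_univ, Finset.subset_set_image_iff] at hs'
  obtain ⟨T₀, -, rfl⟩ := hs'
  refine ⟨insert 1 T₀, Finset.mem_insert_self _ _, ?_⟩
  -- key predicate
  have key : ∀ x' : s.Fiber B, ∃ t ∉ s, ∃ w ∈ Submodule.span A ((insert 1 T₀ : Finset B) : Set B),
      t • x' = ι w := by
    intro x'
    have hx' : x' ∈ Submodule.span κ ((T₀.image ι : Finset _) : Set (s.Fiber B)) := by
      rw [← hs'2, hspan]; trivial
    induction hx' using Submodule.span_induction with
    | mem x hx =>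
      simp only [Finset.coe_image, Set.mem_image, Finset.mem_coe] at hx
      obtain ⟨m, hm, rfl⟩ := hx
      exact ⟨1, fun h => Ideal.IsPrime.ne_top' ((Ideal.eq_top_iff_one _).mpr h), m,
        Submodule.subset_span (by simp [hm]), by simp⟩
    | zero => exact ⟨1, fun h => Ideal.IsPrime.ne_top' ((Ideal.eq_top_iff_one _).mpr h), 0,
        zero_mem _, by simp [ι]⟩
    | add x y _ _ hx hy =>
      obtain ⟨t₁, ht₁, w₁, hw₁, e₁⟩ := hx
      obtain ⟨t₂, ht₂, w₂, hw₂, e₂⟩ := hy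
      refine ⟨t₁ * t₂, s.primeCompl.mul_mem ht₁ ht₂, t₂ • w₁ + t₁ • w₂,
        add_mem (Submodule.smul_mem _ _ hw₁) (Submodule.smul_mem _ _ hw₂), ?_⟩
      have h1 : (t₁ * t₂) • x = t₂ • (t₁ • x) := by rw [mul_comm, mul_smul]
      have h2 : (t₁ * t₂) • y = t₁ • (t₂ • y) := by rw [mul_smul]
      rw [smul_add, h1, h2, e₁, e₂]
      simp only [ι, TensorProduct.tmul_add, TensorProduct.tmul_smul]
    | smul c x _ hx =>
      obtain ⟨t, ht, w, hw, e⟩ := hx
      obtain ⟨tc, htc, α, hα⟩ := exists_smul_eq_algebraMap_residueField s c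
      refine ⟨tc * t, s.primeCompl.mul_mem htc ht, α • w, Submodule.smul_mem _ _ hw, ?_⟩
      have h1 : (tc * t) • (c • x) = (tc • c) • (t • x) := by
        rw [mul_smul, smul_comm t c x, smul_assoc]
      rw [h1, hα, e]
      simp only [ι, TensorProduct.tmul_smul]
      exact algebraMap_smul _ _ _
  intro x
  obtain ⟨t, ht, w, hw, e⟩ := key (ι x)
  have hz : (1 : κ) ⊗ₜ[A] (t • x - w) = 0 := by
    have : t • ι x = ι (t • x) := by simp only [ι, TensorProduct.tmul_smul]
    rw [TensorProduct.tmul_sub]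
    change ι (t • x) - ι w = 0
    rw [← this, e, sub_self]
  obtain ⟨t', ht', hmem⟩ := exists_smul_mem_of_one_tmul_eq_zero s _ hz
  refine ⟨t' * t, s.primeCompl.mul_mem ht' ht, ?_⟩
  have : (t' * t) • x = t' • w + t' • (t • x - w) := by
    rw [smul_sub, mul_smul]; abel
  rw [this]
  refine Submodule.add_mem_sup (Submodule.smul_mem _ _ hw) ?_
  rw [Ideal.smul_top_eq_map]
  exact hmem

theorem exists_fg_le_mem_smul_top (s : Ideal A) (v : B)
    (hv : v ∈ s • (⊤ : Submodule A B)) :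
    ∃ J : Ideal A, J ≤ s ∧ J.FG ∧ v ∈ J • (⊤ : Submodule A B) := by
  refine Submodule.smul_induction_on hv ?_ ?_
  · intro r hr n hn
    exact ⟨Ideal.span {r}, (Ideal.span_singleton_le_iff_mem _).mpr hr, ⟨{r}, by simp⟩,
      Submodule.smul_mem_smul (Ideal.mem_span_singleton_self r) trivial⟩
  · intro x y hx hy
    obtain ⟨J₁, h₁, f₁, m₁⟩ := hx
    obtain ⟨J₂, h₂, f₂, m₂⟩ := hy
    exact ⟨J₁ ⊔ J₂, sup_le h₁ h₂, Submodule.FG.sup f₁ f₂,
      add_mem (Submodule.smul_mono_left le_sup_left m₁) (Submodule.smul_mono_left le_sup_right m₂)⟩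

theorem exists_uniform (s : Ideal A) [s.IsPrime] (Sp : Submodule A B) (X : Finset B)
    (h : ∀ x ∈ X, ∃ t ∉ s, t • x ∈ Sp ⊔ s • (⊤ : Submodule A B)) :
    ∃ t ∉ s, ∃ J : Ideal A, J ≤ s ∧ J.FG ∧
      ∀ x ∈ X, t • x ∈ Sp ⊔ J • (⊤ : Submodule A B) := by
  classical
  induction X using Finset.induction_on with
  | empty =>
    exact ⟨1, fun h => Ideal.IsPrime.ne_top' ((Ideal.eq_top_iff_one _).mpr h), ⊥, bot_le,
      Submodule.fg_bot, by simp⟩
  | insert x X hx ih =>
    obtain ⟨t, ht, J, hJ, hJfg, hX⟩ := ih (fun y hy => h y (Finset.mem_insert_of_mem hy))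
    obtain ⟨t₀, ht₀, hx₀⟩ := h x (Finset.mem_insert_self _ _)
    obtain ⟨u, hu, v, hv, huv⟩ := Submodule.mem_sup.mp hx₀
    obtain ⟨J₀, hJ₀, hJ₀fg, hvJ₀⟩ := exists_fg_le_mem_smul_top s v hv
    refine ⟨t * t₀, s.primeCompl.mul_mem ht ht₀, J ⊔ J₀, sup_le hJ hJ₀, Submodule.FG.sup hJfg hJ₀fg, ?_⟩
    intro y hy
    rcases Finset.mem_insert.mp hy with rfl | hy
    · rw [mul_smul, ← huv]
      refine Submodule.smul_mem _ _ (Submodule.add_mem_sup hu ?_)
      exact Submodule.smul_mono_left le_sup_right hvJ₀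
    · rw [mul_comm, mul_smul]
      refine Submodule.smul_mem _ _ ?_
      have hle : Sp ⊔ J • (⊤ : Submodule A B) ≤ Sp ⊔ (J ⊔ J₀) • (⊤ : Submodule A B) :=
        sup_le_sup_left (Submodule.smul_mono_left le_sup_left) _
      exact hle (hX y hy)

theorem exists_pow_smul_eq_zero_of_mem_minimalPrimes (g : B) (s : Ideal A) [s.IsPrime]
    (hs : s ∈ (annIdeal (A := A) g).minimalPrimes) {α : A} (hα : α ∈ s) :
    ∃ n : ℕ, ∃ t ∉ s, (t * α ^ n) • g = 0 := by
  have h := IsLocalization.AtPrime.radical_map_of_mem_minimalPrimes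
    (A := Localization.AtPrime s) s (annIdeal (A := A) g) hs
  have h1 : algebraMap A (Localization.AtPrime s) α ∈
      ((annIdeal (A := A) g).map (algebraMap A (Localization.AtPrime s))).radical := by
    rw [h]; exact Ideal.mem_map_of_mem _ hα
  obtain ⟨n, hn⟩ := h1
  rw [← map_pow, IsLocalization.mem_map_algebraMap_iff s.primeCompl] at hn
  obtain ⟨⟨⟨i, hi⟩, ⟨b, hb⟩⟩, h2⟩ := hn
  simp only at h2
  rw [← map_mul, IsLocalization.eq_iff_exists s.primeCompl] at h2
  obtain ⟨⟨c, hc⟩, h3⟩ := h2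
  simp only at h3
  refine ⟨n, c * b, s.primeCompl.mul_mem hc hb, ?_⟩
  have : c * b * α ^ n = c * i := by rw [← h3]; ring
  rw [this, mul_smul, mem_annIdeal.mp hi, smul_zero]

/-- Element data near a minimal prime of the annihilator of `g`. -/
theorem exists_data1 [Algebra.FiniteType A B] [Algebra.QuasiFinite A B] (g : B) (s : Ideal A)
    [s.IsPrime] (hs : s ∈ (annIdeal (A := A) g).minimalPrimes) :
    ∃ (a : A) (T gens : Finset B) (J : Ideal A) (N : ℕ),
      a ∉ s ∧ Algebra.adjoin A (gens : Set B) = ⊤ ∧ (1 : B) ∈ T ∧ J.FG ∧ J ≤ s ∧ 0 < N ∧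
      (∀ y ∈ gens, ∀ m ∈ T,
        a • (y * m) ∈ Submodule.span A (T : Set B) ⊔ J • (⊤ : Submodule A B)) ∧
      (∀ i ∈ J ^ N, ∃ n : ℕ, a ^ n • i • g = 0) := by
  classical
  obtain ⟨gens, hgens⟩ := Algebra.FiniteType.out (R := A) (A := B)
  obtain ⟨T, h1T, hT⟩ := exists_smul_mem_span_sup (B := B) s
  obtain ⟨t, ht, J, hJs, hJfg, hX⟩ := exists_uniform s (Submodule.span A (T : Set B))
    ((gens ×ˢ T).image (fun p => p.1 * p.2)) (fun x _ => hT x)
  obtain ⟨G, hG⟩ := hJfg
  have hex : ∀ α ∈ G, ∃ n : ℕ, ∃ t' ∉ s, (t' * α ^ n) • g = 0 := fun α hα =>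
    exists_pow_smul_eq_zero_of_mem_minimalPrimes g s hs (hJs (hG ▸ Submodule.subset_span hα))
  choose! n t' ht' hnt using hex
  set a : A := t * ∏ α ∈ G, t' α with ha
  have has : a ∉ s := by
    intro h
    rcases (Ideal.IsPrime.mem_or_mem inferInstance h) with h | h
    · exact ht h
    · obtain ⟨α, hα, h'⟩ := Ideal.IsPrime.prod_mem_iff.mp h
      exact ht' α hα h'
  let 𝔞 : Ideal A :=
    { carrier := {α | ∃ k : ℕ, a ^ k • α • g = 0}
      add_mem' := by
        rintro x y ⟨k, hk⟩ ⟨l, hl⟩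
        refine ⟨k + l, ?_⟩
        rw [add_smul, smul_add, pow_add]
        nth_rw 1 [mul_comm]
        rw [mul_smul, hk, smul_zero, mul_smul, hl, smul_zero, add_zero]
      zero_mem' := ⟨0, by simp⟩
      smul_mem' := by
        rintro c x ⟨k, hk⟩
        refine ⟨k, ?_⟩
        rw [smul_eq_mul, mul_smul, smul_comm, hk, smul_zero] }
  have hJrad : J ≤ 𝔞.radical := by
    rw [← hG, Ideal.span_le]
    intro α hα
    refine ⟨n α, ⟨1, ?_⟩⟩
    rw [pow_one, ha, ← Finset.mul_prod_erase G t' hα, smul_smul]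
    have : t * (t' α * ∏ x ∈ G.erase α, t' x) * α ^ n α =
        (t * ∏ x ∈ G.erase α, t' x) * (t' α * α ^ n α) := by ring
    rw [this, mul_smul, hnt α hα, smul_zero]
  obtain ⟨N, hN⟩ := Ideal.exists_pow_le_of_le_radical_of_fg hJrad ⟨G, hG⟩
  refine ⟨a, T, gens, J, N + 1, has, hgens, h1T, ⟨G, hG⟩, hJs, Nat.succ_pos N, ?_, ?_⟩
  · intro y hy m hm
    rw [ha, mul_comm, mul_smul]
    refine Submodule.smul_mem _ _ (hX _ ?_)
    exact Finset.mem_image.mpr ⟨(y, m), Finset.mem_product.mpr ⟨hy, hm⟩, rfl⟩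
  · intro i hi
    exact hN (Ideal.pow_le_pow_right (Nat.le_succ N) hi)

end Groth.Agent.Lib.Helper29.FlatLqf
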