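import Groth.Agent.Lib.Helper29.FlatLqf.Free

/-!
# The final step: from local freeness modulo `I` to the injective map `F^r → B` (helper29, S1480)
-/

set_option autoImplicit false
universe u

namespace Groth.Agent.Lib.Helper29.FlatLqf

theorem final_abstract {R S : Type u} [CommRing R] [AddCommGroup S] [Module R S]
    [Module.Flat R S] (I : Ideal R) (hI : I.FG) (r : ℕ) (e : Fin r → S)
    (ha : Submodule.span R (Set.range e) ⊔ I • (⊤ : Submodule R S) = ⊤)
    (hb : ∀ c : Fin r → R, ∑ j, c j • e j ∈ I • (⊤ : Submodule R S) → ∀ j, c j ∈ I)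
    (g : S) (hg : g ≠ 0) (hIg : ∀ i ∈ I, i • g = 0) :
    ∃ F : Ideal R, 0 < r ∧ ∃ φ : (Fin r → F) →ₗ[R] S,
      Function.Injective φ ∧ g ∈ LinearMap.range φ := by
  classical
  let F : Ideal R := Submodule.annihilator (I : Submodule R R)
  have hF : ∀ f ∈ F, ∀ i ∈ I, f * i = 0 := fun f hf i hi => by
    simpa [smul_eq_mul] using Submodule.mem_annihilator.mp hf i hi
  have hFv : ∀ f ∈ F, ∀ v ∈ I • (⊤ : Submodule R S), f • v = 0 := by
    intro f hf v hv
    refine Submodule.smul_induction_on hv ?_ ?_
    · intro i hi n _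
      rw [smul_smul, hF f hf i hi, zero_smul]
    · intro x y hx hy
      rw [smul_add, hx, hy, add_zero]
  have hdec : ∀ z : S, ∃ (d : Fin r → R) (v : S), v ∈ I • (⊤ : Submodule R S) ∧
      z = ∑ l, d l • e l + v := by
    intro z
    have hz : z ∈ Submodule.span R (Set.range e) ⊔ I • (⊤ : Submodule R S) := by rw [ha]; trivial
    obtain ⟨u, hu, v, hv, rfl⟩ := Submodule.mem_sup.mp hz
    obtain ⟨d, rfl⟩ := (Submodule.mem_span_range_iff_exists_fun R).mp hu
    exact ⟨d, v, hv, rfl⟩
  let φ : (Fin r → F) →ₗ[R] S :=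
    ∑ j, (LinearMap.toSpanSingleton R S (e j)) ∘ₗ F.subtype ∘ₗ (LinearMap.proj j)
  have hφ : ∀ x, φ x = ∑ j, (x j : R) • e j := by
    intro x
    simp [φ, LinearMap.sum_apply]
  -- claim 2
  have hg2 : g ∈ LinearMap.range φ := by
    have : Module.Finite R I := Module.Finite.iff_fg.mpr hI
    have hcomp : (LinearMap.toSpanSingleton R S g) ∘ₗ (Submodule.subtype I) = 0 := by
      ext ⟨i, hi⟩
      simpa using hIg i hi
    obtain ⟨k, a, y, hxy, hai⟩ :=
      Module.Flat.exists_factorization_of_comp_eq_zero_of_free hcomp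
    set f : Fin k → R := fun t => a 1 t with hf
    have hfF : ∀ t, f t ∈ F := by
      intro t
      refine Submodule.mem_annihilator.mpr (fun i hi => ?_)
      have h1 : a i = 0 := by
        have := LinearMap.congr_fun hai ⟨i, hi⟩
        simpa using this
      have h2 : a i = i • a 1 := by rw [← map_smul, smul_eq_mul, mul_one]
      have h3 := congrArg (fun v => v t) (h2.symm.trans h1)
      simp only [Finsupp.smul_apply, Finsupp.zero_apply, smul_eq_mul] at h3
      rw [smul_eq_mul, mul_comm]; exact h3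
    have hgy : g = ∑ t, f t • y (Finsupp.single t 1) := by
      have h1 : g = (LinearMap.toSpanSingleton R S g) 1 := by simp
      rw [h1, hxy, LinearMap.comp_apply]
      conv_lhs => rw [← Finsupp.univ_sum_single (a 1)]
      rw [map_sum]
      refine Finset.sum_congr rfl (fun t _ => ?_)
      rw [← Finsupp.smul_single_one, map_smul]
    choose d v hv hyd using fun t => hdec (y (Finsupp.single t 1))
    have hcoef : ∀ j, ∑ t, f t * d t j ∈ F := fun j =>
      Ideal.sum_mem _ (fun t _ => Ideal.mul_mem_right _ _ (hfF t))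
    refine ⟨fun j => ⟨∑ t, f t * d t j, hcoef j⟩, ?_⟩
    rw [hφ, hgy]
    simp only
    have : ∀ t, f t • y (Finsupp.single t 1) = ∑ j, (f t * d t j) • e j := by
      intro t
      rw [hyd t, smul_add, hFv _ (hfF t) _ (hv t), add_zero, Finset.smul_sum]
      simp only [smul_smul]
    simp only [this]
    rw [Finset.sum_comm]
    simp only [Finset.sum_smul]
  -- claim 1
  have hinj : Function.Injective φ := by
    rw [injective_iff_map_eq_zero]
    intro x hx
    rw [hφ] at hx
    obtain ⟨k, a, y, hey, hxa⟩ := Module.Flat.isTrivialRelation_of_sum_smul_eq_zero hx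
    choose d v hv hyd using fun t => hdec (y t)
    have hmem : ∀ j l, (if j = l then (1 : R) else 0) - ∑ t, a j t * d t l ∈ I := by
      intro j
      refine hb _ ?_
      have : ∑ l, ((if j = l then (1 : R) else 0) - ∑ t, a j t * d t l) • e l =
          ∑ t, a j t • v t := by
        have h1 : e j = ∑ t, a j t • (∑ l, d t l • e l + v t) := by
          rw [hey j]; exact Finset.sum_congr rfl (fun t _ => by rw [← hyd t])
        simp only [sub_smul, Finset.sum_sub_distrib, ite_smul, one_smul, zero_smul,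
          Finset.sum_ite_eq, Finset.mem_univ, if_true, Finset.sum_smul]
        rw [sub_eq_iff_eq_add]
        conv_lhs => rw [h1]
        simp only [smul_add, Finset.sum_add_distrib, Finset.smul_sum, smul_smul]
        rw [add_comm, Finset.sum_comm]
      rw [this]
      exact Submodule.sum_mem _ (fun t _ => Submodule.smul_mem _ _ (hv t))
    funext l
    apply Subtype.ext
    have h1 : (x l : R) = ∑ j, (x j : R) * ((if j = l then (1 : R) else 0) - ∑ t, a j t * d t l)
        + ∑ t, (∑ j, (x j : R) * a j t) * d t l := by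
      simp only [mul_sub, Finset.sum_sub_distrib, mul_ite, mul_one, mul_zero, Finset.sum_ite_eq',
        Finset.mem_univ, if_true, Finset.mul_sum, Finset.sum_mul]
      rw [Finset.sum_comm]
      simp only [mul_assoc]
      ring
    rw [h1]
    have h2 : ∀ j, (x j : R) * ((if j = l then (1 : R) else 0) - ∑ t, a j t * d t l) = 0 :=
      fun j => hF _ (x j).2 _ (hmem j l)
    simp only [h2, hxa, zero_mul, Finset.sum_const_zero, add_zero]
    rfl
  have hr : 0 < r := by
    by_contra h
    have h0 : r = 0 := by omega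
    subst h0
    obtain ⟨x, hx⟩ := hg2
    rw [hφ] at hx
    simp at hx
    exact hg hx.symm
  exact ⟨F, hr, φ, hinj, hg2⟩

/-- Second shrinking: after localizing at a suitable `a`, the conclusion holds. -/
theorem alg2 {A B : Type u} [CommRing A] [CommRing B] [Algebra A B]
    [Module.Flat A B] [Algebra.FinitePresentation A B] (g : B)
    (s : Ideal A) [s.IsPrime] (I : Ideal A) (hI : I.FG) (hIs : I ≤ s)
    (hnv : ∀ x, x ∉ s → ∀ n : ℕ, x ^ n • g ≠ 0) (hIg : ∀ i ∈ I, i • g = 0)
    [Module.Finite A (B ⧸ I.map (algebraMap A B))] :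
    ∃ a : A, ∀ (A' B' : Type u) [CommRing A'] [CommRing B'] [Algebra A A'] [Algebra B B']
      [Algebra A' B'] [Algebra A B'] [IsScalarTower A A' B'] [IsScalarTower A B B']
      [IsLocalization.Away a A'] [IsLocalization.Away (algebraMap A B a) B'] [Module.Flat A' B'],
      algebraMap B B' g ≠ 0 ∧
      ∃ (F : Ideal A') (r : ℕ), 0 < r ∧ ∃ φ : (Fin r → F) →ₗ[A'] B',
        Function.Injective φ ∧ algebraMap B B' g ∈ LinearMap.range φ := by
  classical
  obtain ⟨a, r, e, ha, h2, h3⟩ := exists_data2 (B := B) I hI s hIs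
  refine ⟨a, ?_⟩
  intro A' B' _ _ _ _ _ _ _ _ _ _ _
  have hu : IsUnit (algebraMap A A' a) := isUnit_a_model (A' := A') a
  have hg' : algebraMap B B' g ≠ 0 := by
    intro h0
    rw [IsLocalization.map_eq_zero_iff (Submonoid.powers (algebraMap A B a)) B'] at h0
    obtain ⟨⟨_, n, rfl⟩, hn⟩ := h0
    simp only at hn
    refine hnv a ha n ?_
    rw [Algebra.smul_def, map_pow]; exact hn
  refine ⟨hg', ?_⟩
  have hIg' : ∀ i ∈ I.map (algebraMap A A'), i • algebraMap B B' g = 0 := by
    intro i hi
    rw [Ideal.map] at hi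
    induction hi using Submodule.span_induction with
    | mem x hx =>
      obtain ⟨i, hi, rfl⟩ := hx
      have : (algebraMap A A' i) • algebraMap B B' g = algebraMap B B' (i • g) := by
        rw [algebraMap_smul_model, Algebra.smul_def, Algebra.smul_def, map_mul,
          ← IsScalarTower.algebraMap_apply]
      rw [this, hIg i hi, map_zero]
    | zero => rw [zero_smul]
    | add x y _ _ hx hy => rw [add_smul, hx, hy, add_zero]
    | smul c x _ hx => rw [smul_eq_mul, mul_smul, hx, smul_zero]
  -- (a)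
  have hA : Submodule.span A' (Set.range (algebraMap B B' ∘ e)) ⊔
      (I.map (algebraMap A A')) • (⊤ : Submodule A' B') = ⊤ := by
    rw [eq_top_iff]
    rintro x -
    obtain ⟨n, b, hx⟩ := exists_pow_smul_eq_algebraMap (A' := A') (B := B) a x
    obtain ⟨n', hb⟩ := h2 b
    have h4 := algebraMap_mem_model (A' := A') (B' := B') (Set.range e) I _ hb
    rw [← Set.range_comp] at h4
    have h5 : algebraMap B B' (a ^ n' • b) = (algebraMap A A' a) ^ n' • algebraMap B B' b := by
      rw [← map_pow, algebraMap_smul_model, Algebra.smul_def, Algebra.smul_def, map_mul,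
        ← IsScalarTower.algebraMap_apply]
    rw [h5, Submodule.smul_mem_iff_of_isUnit _ (hu.pow n'), ← hx,
      Submodule.smul_mem_iff_of_isUnit _ (hu.pow n)] at h4
    exact h4
  -- (b)
  have hB : ∀ c : Fin r → A', ∑ j, c j • (algebraMap B B' ∘ e) j ∈
      (I.map (algebraMap A A')) • (⊤ : Submodule A' B') → ∀ j, c j ∈ I.map (algebraMap A A') := by
    intro c hc j
    obtain ⟨⟨_, K, rfl⟩, ht⟩ := IsLocalization.exist_integer_multiples_of_finite
      (Submonoid.powers a) c
    choose c₀ hc₀ using ht
    simp only at hc₀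
    -- the image of ∑ c₀ j • e j lies in I'B'
    have h6 : algebraMap B B' (∑ j, c₀ j • e j) ∈
        (I.map (algebraMap A B)).map (algebraMap B B') := by
      have : algebraMap B B' (∑ j, c₀ j • e j) =
          (algebraMap A A' (a ^ K)) • ∑ j, c j • (algebraMap B B' ∘ e) j := by
        rw [map_sum, Finset.smul_sum]
        refine Finset.sum_congr rfl (fun j _ => ?_)
        rw [smul_smul, Function.comp_apply, ← Algebra.smul_def (a ^ K) (c j),
          ← hc₀ j, algebraMap_smul_model, Algebra.smul_def, Algebra.smul_def,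
          map_mul, ← IsScalarTower.algebraMap_apply]
      rw [this, ← map_map_model (A' := A'), ← Submodule.restrictScalars_mem A',
        ← Ideal.smul_top_eq_map]
      exact Submodule.smul_mem _ _ hc
    rw [IsLocalization.mem_map_algebraMap_iff (Submonoid.powers (algebraMap A B a))] at h6
    obtain ⟨⟨⟨b₀, hb₀⟩, ⟨_, n₁, rfl⟩⟩, h7⟩ := h6
    simp only at h7
    rw [← map_mul, IsLocalization.eq_iff_exists (Submonoid.powers (algebraMap A B a))] at h7
    obtain ⟨⟨_, n₂, rfl⟩, h8⟩ := h7
    simp only at h8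
    have h9 : ∑ j, (a ^ (n₂ + n₁) * c₀ j) • e j ∈ I.map (algebraMap A B) := by
      have : ∑ j, (a ^ (n₂ + n₁) * c₀ j) • e j =
          (algebraMap A B a) ^ n₂ * ((∑ j, c₀ j • e j) * (algebraMap A B a) ^ n₁) := by
        simp only [mul_smul, ← Finset.smul_sum, pow_add]
        rw [Algebra.smul_def, Algebra.smul_def, map_pow, map_pow]; ring
      rw [this, h8]
      exact Ideal.mul_mem_left _ _ hb₀
    obtain ⟨n₃, hn₃⟩ := h3 _ h9 j
    have h10 : algebraMap A A' (a ^ n₃ * (a ^ (n₂ + n₁) * c₀ j)) ∈ I.map (algebraMap A A') :=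
      Ideal.mem_map_of_mem _ hn₃
    rw [map_mul, map_mul, hc₀ j, Algebra.smul_def, ← mul_assoc, ← mul_assoc] at h10
    have hunit : IsUnit (algebraMap A A' (a ^ n₃) * algebraMap A A' (a ^ (n₂ + n₁)) *
        algebraMap A A' (a ^ K)) := by
      simp only [map_pow]
      exact ((hu.pow _).mul (hu.pow _)).mul (hu.pow _)
    exact (Ideal.unit_mul_mem_iff_mem _ hunit).mp h10
  obtain ⟨F, hr, φ, hinj, hmem⟩ := final_abstract (I.map (algebraMap A A')) (hI.map _) r
    (algebraMap B B' ∘ e) hA hB (algebraMap B B' g) hg' hIg'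
  exact ⟨F, r, hr, φ, hinj, hmem⟩

end Groth.Agent.Lib.Helper29.FlatLqf
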