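import Groth.Agent.Lib.Helper29.FlatLqf.Model

/-!
# Second shrinking: local freeness of `B/IB` over `A/I` in elementwise form (helper29, for S1480)
-/

set_option autoImplicit false
universe u

open TensorProduct

namespace Groth.Agent.Lib.Helper29.FlatLqf

theorem exists_data2 {A B : Type u} [CommRing A] [CommRing B] [Algebra A B]
    [Module.Flat A B] [Algebra.FinitePresentation A B] (I : Ideal A) (hI : I.FG)
    (s : Ideal A) [s.IsPrime] (hIs : I ≤ s)
    [Module.Finite A (B ⧸ I.map (algebraMap A B))] :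
    ∃ (a : A) (r : ℕ) (e : Fin r → B), a ∉ s ∧
      (∀ y : B, ∃ n : ℕ,
        a ^ n • y ∈ Submodule.span A (Set.range e) ⊔ I • (⊤ : Submodule A B)) ∧
      (∀ c : Fin r → A, ∑ j, c j • e j ∈ I.map (algebraMap A B) →
        ∀ j, ∃ n : ℕ, a ^ n * c j ∈ I) := by
  classical
  have h1 : Algebra.FinitePresentation A (B ⧸ I.map (algebraMap A B)) :=
    Algebra.FinitePresentation.quotient (hI.map _)
  have h2 : Algebra.FinitePresentation (A ⧸ I) (B ⧸ I.map (algebraMap A B)) :=
    Algebra.FinitePresentation.of_restrict_scalars_finitePresentation A (A ⧸ I) _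
  have h3 : Module.Finite (A ⧸ I) (B ⧸ I.map (algebraMap A B)) :=
    Module.Finite.of_restrictScalars_finite A (A ⧸ I) _
  have h4 : Module.FinitePresentation (A ⧸ I) (B ⧸ I.map (algebraMap A B)) :=
    Module.FinitePresentation.of_finite_of_finitePresentation (A ⧸ I) _
  have h5 : Module.Flat (A ⧸ I) (B ⧸ I.map (algebraMap A B)) :=
    Module.Flat.of_linearEquiv
      (Algebra.TensorProduct.quotIdealMapEquivQuotTensor B I).toLinearEquiv
  have hp : (s.map (Ideal.Quotient.mk I)).IsPrime :=
    Ideal.map_isPrime_of_surjective Ideal.Quotient.mk_surjective (by rw [Ideal.mk_ker]; exact hIs)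
  set p : Ideal (A ⧸ I) := s.map (Ideal.Quotient.mk I) with hpdef
  have h6 : Module.Free (Localization.AtPrime p)
      (LocalizedModule p.primeCompl (B ⧸ I.map (algebraMap A B))) :=
    Module.free_of_flat_of_isLocalRing
  let b := Module.finBasis (Localization.AtPrime p)
      (LocalizedModule p.primeCompl (B ⧸ I.map (algebraMap A B)))
  obtain ⟨rbar, hr, b', -⟩ := Module.FinitePresentation.exists_basis_localizedModule_powers
    p.primeCompl (LocalizedModule.mkLinearMap p.primeCompl (B ⧸ I.map (algebraMap A B)))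
    (Localization.AtPrime p) b
  obtain ⟨a, rfl⟩ := Ideal.Quotient.mk_surjective rbar
  have ha : a ∉ s := fun h => hr (Ideal.mem_map_of_mem _ h)
  set rb : A ⧸ I := Ideal.Quotient.mk I a with hrb
  have hnum : ∀ x : LocalizedModule (Submonoid.powers rb) (B ⧸ I.map (algebraMap A B)),
      ∃ (m : B) (k : ℕ),
        (algebraMap (A ⧸ I) (Localization (Submonoid.powers rb)) (rb ^ k)) • x =
          LocalizedModule.mkLinearMap (Submonoid.powers rb) (B ⧸ I.map (algebraMap A B))
            (Ideal.Quotient.mk (I.map (algebraMap A B)) m) := by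
    intro x
    induction x using LocalizedModule.induction_on with
    | h m t =>
      obtain ⟨m, rfl⟩ := Ideal.Quotient.mk_surjective m
      obtain ⟨_, k, rfl⟩ := t
      refine ⟨m, k, ?_⟩
      rw [algebraMap_smul, LocalizedModule.smul'_mk, LocalizedModule.mkLinearMap_apply]
      exact LocalizedModule.mk_cancel (⟨rb ^ k, k, rfl⟩ : Submonoid.powers rb) _
  choose e k hk using fun j => hnum (b' j)
  have hunit : ∀ j, IsUnit (algebraMap (A ⧸ I) (Localization (Submonoid.powers rb)) (rb ^ k j)) :=
    fun j => IsLocalization.map_units _ (⟨rb ^ k j, k j, rfl⟩ : Submonoid.powers rb)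
  let b'' := b'.isUnitSMul hunit
  have hb'' : ∀ j, b'' j = LocalizedModule.mkLinearMap (Submonoid.powers rb)
      (B ⧸ I.map (algebraMap A B)) (Ideal.Quotient.mk (I.map (algebraMap A B)) (e j)) :=
    fun j => by rw [Module.Basis.isUnitSMul_apply, hk]
  have F1 : ∀ (α : A) (z : B), Ideal.Quotient.mk (I.map (algebraMap A B)) (α • z) =
      (Ideal.Quotient.mk I α) • Ideal.Quotient.mk (I.map (algebraMap A B)) z := by
    intro α z
    rw [Algebra.smul_def, Ideal.Quotient.mk_smul_mk_quotient_map_quotient]
  refine ⟨a, _, e, ha, ?_, ?_⟩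
  · -- spanning
    intro y
    set x := LocalizedModule.mkLinearMap (Submonoid.powers rb) (B ⧸ I.map (algebraMap A B))
      (Ideal.Quotient.mk (I.map (algebraMap A B)) y) with hx
    obtain ⟨t, ht⟩ := IsLocalization.exist_integer_multiples_of_finite (Submonoid.powers rb)
      (fun j => b''.repr x j)
    choose γb hγb using ht
    have hsum : (t : A ⧸ I) • x = LocalizedModule.mkLinearMap (Submonoid.powers rb)
        (B ⧸ I.map (algebraMap A B))
        (∑ j, γb j • Ideal.Quotient.mk (I.map (algebraMap A B)) (e j)) := by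
      conv_lhs => rw [← b''.sum_repr x]
      rw [Finset.smul_sum, map_sum]
      refine Finset.sum_congr rfl (fun j _ => ?_)
      rw [map_smul, ← hb'', ← algebraMap_smul (Localization (Submonoid.powers rb)) (γb j) (b'' j),
        hγb j, smul_assoc]
    rw [hx, ← map_smul, ← sub_eq_zero, ← map_sub,
      IsLocalizedModule.eq_zero_iff (Submonoid.powers rb)] at hsum
    obtain ⟨⟨_, n₂, rfl⟩, hu⟩ := hsum
    obtain ⟨_, n₁, rfl⟩ := t
    choose γ hγ using fun j => Ideal.Quotient.mk_surjective (γb j)
    simp only [Submonoid.smul_def] at hu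
    have h7 : Ideal.Quotient.mk (I.map (algebraMap A B))
        (a ^ (n₂ + n₁) • y - ∑ j, (a ^ n₂ * γ j) • e j) = 0 := by
      rw [← hu]
      simp only [map_sub, map_sum, F1, map_mul, map_pow, hγ, smul_sub, Finset.smul_sum, pow_add,
        mul_smul, ← hrb]
    rw [Ideal.Quotient.eq_zero_iff_mem] at h7
    refine ⟨n₂ + n₁, ?_⟩
    have : a ^ (n₂ + n₁) • y = ∑ j, (a ^ n₂ * γ j) • e j +
        (a ^ (n₂ + n₁) • y - ∑ j, (a ^ n₂ * γ j) • e j) := by abel
    rw [this]
    refine Submodule.add_mem_sup ?_ ?_
    · exact Submodule.sum_mem _ (fun j _ => Submodule.smul_mem _ _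
        (Submodule.subset_span ⟨j, rfl⟩))
    · rw [Ideal.smul_top_eq_map]; exact h7
  · -- independence
    intro c hc j
    have h8 : ∑ j, (algebraMap (A ⧸ I) (Localization (Submonoid.powers rb))
        (Ideal.Quotient.mk I (c j))) • b'' j = 0 := by
      have : ∑ j, (algebraMap (A ⧸ I) (Localization (Submonoid.powers rb))
          (Ideal.Quotient.mk I (c j))) • b'' j =
          LocalizedModule.mkLinearMap (Submonoid.powers rb) (B ⧸ I.map (algebraMap A B))
            (Ideal.Quotient.mk (I.map (algebraMap A B)) (∑ j, c j • e j)) := by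
        rw [map_sum, map_sum]
        refine Finset.sum_congr rfl (fun j _ => ?_)
        rw [hb'', algebraMap_smul, ← map_smul, F1]
      rw [this, Ideal.Quotient.eq_zero_iff_mem.mpr hc, map_zero]
    have h9 := Fintype.linearIndependent_iff.mp b''.linearIndependent _ h8 j
    rw [IsLocalization.map_eq_zero_iff (Submonoid.powers rb)] at h9
    obtain ⟨⟨_, n, rfl⟩, hn⟩ := h9
    refine ⟨n, ?_⟩
    rw [← Ideal.Quotient.eq_zero_iff_mem, map_mul, map_pow]
    exact hn

end Groth.Agent.Lib.Helper29.FlatLqf
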