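import Groth.Agent.Lib.Helper29.FlatLqf.Final

/-!
# Bundled (ring hom) versions of the two shrinking lemmas (helper29, for S1480)
-/

set_option autoImplicit false
universe u

namespace Groth.Agent.Lib.Helper29.FlatLqf

theorem alg1_hom {A B : Type u} [CommRing A] [CommRing B] (φ : A →+* B) (hft : φ.FiniteType)
    (hqf : φ.QuasiFinite) (g : B) (hg : g ≠ 0) :
    ∃ a : A, ∀ (A' B' : Type u) [CommRing A'] [CommRing B'] (φ' : A' →+* B') (ρA : A →+* A')
      (ρB : B →+* B'), φ'.comp ρA = ρB.comp φ →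
      (letI := ρA.toAlgebra; IsLocalization.Away a A') →
      (letI := ρB.toAlgebra; IsLocalization.Away (φ a) B') →
      ∃ (s' : Ideal A') (_ : s'.IsPrime) (I' : Ideal A'), I'.FG ∧ I' ≤ s' ∧
        (∀ x, x ∉ s' → ∀ n : ℕ, φ' (x ^ n) * ρB g ≠ 0) ∧
        (∀ i ∈ I', φ' i * ρB g = 0) ∧
        (letI := φ'.toAlgebra; Module.Finite A' (B' ⧸ I'.map φ')) := by
  letI := φ.toAlgebra
  have : Algebra.FiniteType A B := hft
  have : Algebra.QuasiFinite A B := hqf
  obtain ⟨a, ha⟩ := alg1 (A := A) (B := B) g hg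
  refine ⟨a, ?_⟩
  intro A' B' _ _ φ' ρA ρB hcomm hA hB
  letI := ρA.toAlgebra
  letI := ρB.toAlgebra
  letI := φ'.toAlgebra
  letI : Algebra A B' := (ρB.comp φ).toAlgebra
  have t1 : IsScalarTower A A' B' := IsScalarTower.of_algebraMap_eq' hcomm.symm
  have t2 : IsScalarTower A B B' := IsScalarTower.of_algebraMap_eq' rfl
  have hA' : IsLocalization.Away a A' := hA
  have hB' : IsLocalization.Away (algebraMap A B a) B' := hB
  obtain ⟨s', hs', I', hI', hIs', h1, h2, h3⟩ := ha A' B'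
  refine ⟨s', hs', I', hI', hIs', ?_, ?_, h3⟩
  · intro x hx n
    have := h1 x hx n
    rwa [Algebra.smul_def, RingHom.algebraMap_toAlgebra, RingHom.algebraMap_toAlgebra] at this
  · intro i hi
    have := h2 i hi
    rwa [Algebra.smul_def, RingHom.algebraMap_toAlgebra, RingHom.algebraMap_toAlgebra] at this

theorem alg2_hom {A B : Type u} [CommRing A] [CommRing B] (φ : A →+* B) (hfl : φ.Flat)
    (hfp : φ.FinitePresentation) (g : B)
    (s : Ideal A) [s.IsPrime] (I : Ideal A) (hI : I.FG) (hIs : I ≤ s)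
    (hnv : ∀ x, x ∉ s → ∀ n : ℕ, φ (x ^ n) * g ≠ 0) (hIg : ∀ i ∈ I, φ i * g = 0)
    (hfin : letI := φ.toAlgebra; Module.Finite A (B ⧸ I.map φ)) :
    ∃ a : A, ∀ (A' B' : Type u) [CommRing A'] [CommRing B'] (φ' : A' →+* B') (ρA : A →+* A')
      (ρB : B →+* B'), φ'.comp ρA = ρB.comp φ →
      (letI := ρA.toAlgebra; IsLocalization.Away a A') →
      (letI := ρB.toAlgebra; IsLocalization.Away (φ a) B') → φ'.Flat →
      ρB g ≠ 0 ∧ ∃ (F : Ideal A') (r : ℕ), 0 < r ∧
        letI := φ'.toAlgebra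
        ∃ ψ : (Fin r → F) →ₗ[A'] B', Function.Injective ψ ∧ ρB g ∈ LinearMap.range ψ := by
  letI := φ.toAlgebra
  have : Module.Flat A B := hfl
  have : Algebra.FinitePresentation A B := hfp
  have : Module.Finite A (B ⧸ I.map (algebraMap A B)) := hfin
  have hnv' : ∀ x, x ∉ s → ∀ n : ℕ, x ^ n • g ≠ 0 := by
    intro x hx n
    have := hnv x hx n
    rwa [Algebra.smul_def, RingHom.algebraMap_toAlgebra]
  have hIg' : ∀ i ∈ I, i • g = 0 := by
    intro i hi
    have := hIg i hi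
    rwa [Algebra.smul_def, RingHom.algebraMap_toAlgebra]
  obtain ⟨a, ha⟩ := alg2 (A := A) (B := B) g s I hI hIs hnv' hIg'
  refine ⟨a, ?_⟩
  intro A' B' _ _ φ' ρA ρB hcomm hA hB hfl'
  letI := ρA.toAlgebra
  letI := ρB.toAlgebra
  letI := φ'.toAlgebra
  letI : Algebra A B' := (ρB.comp φ).toAlgebra
  have t1 : IsScalarTower A A' B' := IsScalarTower.of_algebraMap_eq' hcomm.symm
  have t2 : IsScalarTower A B B' := IsScalarTower.of_algebraMap_eq' rfl
  have hA' : IsLocalization.Away a A' := hA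
  have hB' : IsLocalization.Away (algebraMap A B a) B' := hB
  have hfl'' : Module.Flat A' B' := hfl'
  exact ha A' B'

end Groth.Agent.Lib.Helper29.FlatLqf
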