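import Groth.Agent.Lib.Helper29.FlatLqf.Fibre

/-!
# Localization models and the first shrinking (helper29, for S1480)
-/

set_option autoImplicit false
universe u

namespace Groth.Agent.Lib.Helper29.FlatLqf

section General

theorem sup_pow_smul_top_eq_top {R M : Type*} [CommRing R] [AddCommGroup M] [Module R M]
    (Sp : Submodule R M) (J : Ideal R) (h : Sp ⊔ J • (⊤ : Submodule R M) = ⊤) (k : ℕ) :
    Sp ⊔ (J ^ k) • (⊤ : Submodule R M) = ⊤ := by
  induction k with
  | zero => simp
  | succ k ih =>
    have key : (J ^ k) • (⊤ : Submodule R M) ≤ Sp ⊔ (J ^ (k + 1)) • (⊤ : Submodule R M) := by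
      calc (J ^ k) • (⊤ : Submodule R M)
          = (J ^ k) • (Sp ⊔ J • (⊤ : Submodule R M)) := by rw [h]
        _ = (J ^ k) • Sp ⊔ (J ^ k) • J • (⊤ : Submodule R M) := Submodule.smul_sup _ _ _
        _ ≤ Sp ⊔ (J ^ (k + 1)) • (⊤ : Submodule R M) := by
          refine sup_le_sup Submodule.smul_le_right ?_
          rw [pow_succ, Submodule.mul_smul]
    refine eq_top_iff.mpr ?_
    calc (⊤ : Submodule R M) = Sp ⊔ (J ^ k) • (⊤ : Submodule R M) := ih.symm
      _ ≤ Sp ⊔ (J ^ (k + 1)) • (⊤ : Submodule R M) := sup_le le_sup_left key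

theorem finite_quotient_of_span_sup {R S : Type*} [CommRing R] [CommRing S] [Algebra R S]
    (T : Set S) (hT : T.Finite) (I : Ideal R)
    (h : Submodule.span R T ⊔ I • (⊤ : Submodule R S) = ⊤) :
    Module.Finite R (S ⧸ I.map (algebraMap R S)) := by
  have : Module.Finite R (Submodule.span R T) := Module.Finite.span_of_finite R hT
  let f : Submodule.span R T →ₗ[R] (S ⧸ I.map (algebraMap R S)) :=
    (Ideal.Quotient.mkₐ R (I.map (algebraMap R S))).toLinearMap ∘ₗ (Submodule.span R T).subtype
  refine Module.Finite.of_surjective f ?_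
  intro y
  obtain ⟨x, rfl⟩ := Ideal.Quotient.mk_surjective y
  have hx : x ∈ Submodule.span R T ⊔ I • (⊤ : Submodule R S) := by rw [h]; trivial
  obtain ⟨u, hu, v, hv, rfl⟩ := Submodule.mem_sup.mp hx
  refine ⟨⟨u, hu⟩, ?_⟩
  rw [Ideal.smul_top_eq_map] at hv
  have hv0 : Ideal.Quotient.mk (I.map (algebraMap R S)) v = 0 :=
    Ideal.Quotient.eq_zero_iff_mem.mpr hv
  simp [f, hv0]

end General

section Model

variable {A B A' B' : Type u} [CommRing A] [CommRing B] [CommRing A'] [CommRing B']
  [Algebra A B] [Algebra A A'] [Algebra B B'] [Algebra A' B'] [Algebra A B']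
  [IsScalarTower A A' B'] [IsScalarTower A B B']

omit [Algebra A B] [IsScalarTower A B B'] in
theorem algebraMap_smul_model (α : A) (x : B') : (algebraMap A A' α) • x = α • x :=
  algebraMap_smul A' α x

theorem map_map_model (J : Ideal A) :
    (J.map (algebraMap A A')).map (algebraMap A' B') =
      (J.map (algebraMap A B)).map (algebraMap B B') := by
  rw [Ideal.map_map, Ideal.map_map, ← IsScalarTower.algebraMap_eq, ← IsScalarTower.algebraMap_eq]

/-- The image of `Sp ⊔ J • ⊤` lands in the corresponding submodule of the model. -/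
theorem algebraMap_mem_model (T : Set B) (J : Ideal A) (w : B)
    (hw : w ∈ Submodule.span A T ⊔ J • (⊤ : Submodule A B)) :
    algebraMap B B' w ∈ Submodule.span A' (algebraMap B B' '' T) ⊔
      (J.map (algebraMap A A')) • (⊤ : Submodule A' B') := by
  obtain ⟨u, hu, v, hv, rfl⟩ := Submodule.mem_sup.mp hw
  clear hw
  rw [map_add]
  refine Submodule.add_mem_sup ?_ ?_
  · induction hu using Submodule.span_induction with
    | mem x hx => exact Submodule.subset_span ⟨x, hx, rfl⟩
    | zero => rw [map_zero]; exact zero_mem _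
    | add x y _ _ hx hy => rw [map_add]; exact add_mem hx hy
    | smul α x _ hx =>
      have : algebraMap B B' (α • x) = (algebraMap A A' α) • algebraMap B B' x := by
        rw [algebraMap_smul_model, Algebra.smul_def, map_mul, ← IsScalarTower.algebraMap_apply,
          Algebra.smul_def]
      rw [this]
      exact Submodule.smul_mem _ _ hx
  · refine Submodule.smul_induction_on hv ?_ ?_
    · intro r hr n _
      have : algebraMap B B' (r • n) = (algebraMap A A' r) • algebraMap B B' n := by
        rw [algebraMap_smul_model, Algebra.smul_def, map_mul, ← IsScalarTower.algebraMap_apply,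
          Algebra.smul_def]
      rw [this]
      exact Submodule.smul_mem_smul (Ideal.mem_map_of_mem _ hr) trivial
    · intro x y hx hy
      rw [map_add]; exact add_mem hx hy

variable (a : A) [IsLocalization.Away a A'] [IsLocalization.Away (algebraMap A B a) B']

include a in
omit [Algebra A B] [Algebra B B'] [Algebra A' B'] [Algebra A B'] [IsScalarTower A A' B']
  [IsScalarTower A B B'] [IsLocalization.Away (algebraMap A B a) B'] in
theorem isUnit_a_model : IsUnit (algebraMap A A' a) := IsLocalization.Away.algebraMap_isUnit a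

/-- Every element of `B'` is a unit multiple of an element coming from `B`. -/
theorem exists_pow_smul_eq_algebraMap (x : B') :
    ∃ (n : ℕ) (b : B), (algebraMap A A' a) ^ n • x = algebraMap B B' b := by
  obtain ⟨n, b, hx⟩ := IsLocalization.Away.surj (algebraMap A B a) x
  refine ⟨n, b, ?_⟩
  rw [← hx, Algebra.smul_def, mul_comm, map_pow, ← IsScalarTower.algebraMap_apply,
    IsScalarTower.algebraMap_apply A B B']

/-- The closure argument: in the model, `B' = span T + J B'`. -/
theorem model_span_sup_eq_top (T gens : Finset B) (J : Ideal A)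
    (hgens : Algebra.adjoin A (gens : Set B) = ⊤) (h1 : (1 : B) ∈ T)
    (hstar : ∀ y ∈ gens, ∀ m ∈ T,
      a • (y * m) ∈ Submodule.span A (T : Set B) ⊔ J • (⊤ : Submodule A B)) :
    Submodule.span A' (algebraMap B B' '' (T : Set B)) ⊔
      (J.map (algebraMap A A')) • (⊤ : Submodule A' B') = ⊤ := by
  set W' : Submodule A' B' := Submodule.span A' (algebraMap B B' '' (T : Set B)) ⊔
      (J.map (algebraMap A A')) • (⊤ : Submodule A' B') with hW'
  have hu : IsUnit (algebraMap A A' a) := isUnit_a_model (A' := A') a
  have hideal : ∀ (c : B') (v : B'), v ∈ (J.map (algebraMap A A')) • (⊤ : Submodule A' B') →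
      c * v ∈ (J.map (algebraMap A A')) • (⊤ : Submodule A' B') := by
    intro c v hv
    rw [Ideal.smul_top_eq_map] at hv ⊢
    exact Ideal.mul_mem_left _ c hv
  have hmul : ∀ b : B, ∀ w ∈ W', algebraMap B B' b * w ∈ W' := by
    intro b
    have hb : b ∈ Algebra.adjoin A (gens : Set B) := by rw [hgens]; trivial
    induction hb using Algebra.adjoin_induction with
    | mem y hy =>
      intro w hw
      obtain ⟨u, hu', v, hv, rfl⟩ := Submodule.mem_sup.mp hw
      clear hw
      rw [mul_add]
      refine add_mem ?_ (Submodule.mem_sup_right (hideal _ _ hv))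
      induction hu' using Submodule.span_induction with
      | mem x hx =>
        obtain ⟨m, hm, rfl⟩ := hx
        have h2 := algebraMap_mem_model (A' := A') (B' := B') (T : Set B) J _
          (hstar y hy m hm)
        have h3 : algebraMap B B' (a • (y * m)) =
            (algebraMap A A' a) • (algebraMap B B' y * algebraMap B B' m) := by
          rw [algebraMap_smul_model, Algebra.smul_def, map_mul, map_mul,
            ← IsScalarTower.algebraMap_apply, Algebra.smul_def]
        rw [h3] at h2
        exact (Submodule.smul_mem_iff_of_isUnit _ hu).mp h2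
      | zero => rw [mul_zero]; exact zero_mem _
      | add x z _ _ hx hz => rw [mul_add]; exact add_mem hx hz
      | smul c x _ hx => rw [mul_smul_comm]; exact Submodule.smul_mem _ _ hx
    | algebraMap α =>
      intro w hw
      have : algebraMap B B' (algebraMap A B α) * w = (algebraMap A A' α) • w := by
        rw [← IsScalarTower.algebraMap_apply, algebraMap_smul_model, Algebra.smul_def]
      rw [this]
      exact Submodule.smul_mem _ _ hw
    | add x y _ _ hx hy =>
      intro w hw
      rw [map_add, add_mul]
      exact add_mem (hx w hw) (hy w hw)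
    | mul x y _ _ hx hy =>
      intro w hw
      rw [map_mul, mul_assoc]
      exact hx _ (hy w hw)
  have h1' : (1 : B') ∈ W' := by
    refine Submodule.mem_sup_left (Submodule.subset_span ⟨1, h1, map_one _⟩)
  rw [eq_top_iff]
  rintro x -
  obtain ⟨n, b, hx⟩ := exists_pow_smul_eq_algebraMap (A' := A') (B := B) a x
  have : algebraMap B B' b ∈ W' := by
    have := hmul b 1 h1'
    rwa [mul_one] at this
  rw [← hx] at this
  exact (Submodule.smul_mem_iff_of_isUnit _ (hu.pow n)).mp this

end Model

/-- First shrinking: after localizing at a suitable `a`, there is a finitely generated ideal `I'`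
killing `g` such that `B'/I'B'` is a finite `A'`-module. -/
theorem alg1 {A B : Type u} [CommRing A] [CommRing B] [Algebra A B]
    [Algebra.FiniteType A B] [Algebra.QuasiFinite A B] (g : B) (hg : g ≠ 0) :
    ∃ a : A, ∀ (A' B' : Type u) [CommRing A'] [CommRing B'] [Algebra A A'] [Algebra B B']
      [Algebra A' B'] [Algebra A B'] [IsScalarTower A A' B'] [IsScalarTower A B B']
      [IsLocalization.Away a A'] [IsLocalization.Away (algebraMap A B a) B'],
      ∃ (s' : Ideal A') (_ : s'.IsPrime) (I' : Ideal A'), I'.FG ∧ I' ≤ s' ∧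
        (∀ x, x ∉ s' → ∀ n : ℕ, x ^ n • algebraMap B B' g ≠ 0) ∧
        (∀ i ∈ I', i • algebraMap B B' g = 0) ∧
        Module.Finite A' (B' ⧸ I'.map (algebraMap A' B')) := by
  classical
  have hne : annIdeal (A := A) g ≠ ⊤ := by
    intro h
    have : (1 : A) ∈ annIdeal (A := A) g := by rw [h]; trivial
    rw [mem_annIdeal, one_smul] at this
    exact hg this
  obtain ⟨M, hM, hMle⟩ := Ideal.exists_le_maximal _ hne
  have : M.IsPrime := hM.isPrime
  obtain ⟨s, hs, -⟩ := Ideal.exists_minimalPrimes_le hMle
  have hsp : s.IsPrime := hs.1.1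
  obtain ⟨a, T, gens, J, N, has, hgens, h1T, hJfg, hJs, hN, hstar, hann⟩ :=
    exists_data1 g s hs
  refine ⟨a, ?_⟩
  intro A' B' _ _ _ _ _ _ _ _ _ _
  have hu : IsUnit (algebraMap A A' a) := isUnit_a_model (A' := A') a
  have hdisj : Disjoint ((Submonoid.powers a : Submonoid A) : Set A) (s : Set A) :=
    (Ideal.disjoint_powers_iff_notMem a hsp.isRadical).mpr has
  have hs'prime : (s.map (algebraMap A A')).IsPrime :=
    IsLocalization.isPrime_of_isPrime_disjoint (Submonoid.powers a) A' s hsp hdisj
  have hcomap : (s.map (algebraMap A A')).comap (algebraMap A A') = s :=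
    IsLocalization.comap_map_of_isPrime_disjoint (Submonoid.powers a) A' hsp hdisj
  refine ⟨s.map (algebraMap A A'), hs'prime, (J ^ N).map (algebraMap A A'),
    (hJfg.pow (n := N)).map _, Ideal.map_mono ((Ideal.pow_le_self hN.ne').trans hJs), ?_, ?_, ?_⟩
  · -- nonvanishing
    intro x hx n h0
    obtain ⟨k, α, hxα⟩ := IsLocalization.Away.surj a x
    have hα : α ∉ s := by
      intro hα
      have : x * algebraMap A A' a ^ k ∈ s.map (algebraMap A A') := by
        rw [hxα]; exact Ideal.mem_map_of_mem _ hα
      exact hx ((Ideal.mul_unit_mem_iff_mem _ (hu.pow k)).mp this)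
    have h1 : algebraMap B B' (α ^ n • g) = 0 := by
      have : algebraMap B B' (α ^ n • g) = (algebraMap A A' α) ^ n • algebraMap B B' g := by
        rw [← map_pow, algebraMap_smul_model, Algebra.smul_def, map_mul,
          ← IsScalarTower.algebraMap_apply, Algebra.smul_def]
      rw [this, ← hxα, mul_pow, mul_comm, mul_smul, h0, smul_zero]
    rw [IsLocalization.map_eq_zero_iff (Submonoid.powers (algebraMap A B a)) B'] at h1
    obtain ⟨⟨_, j, rfl⟩, hj⟩ := h1
    simp only at hj
    have hmem : a ^ j * α ^ n ∈ annIdeal (A := A) g := by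
      rw [mem_annIdeal, mul_smul, Algebra.smul_def, map_pow]; exact hj
    have := hs.1.2 hmem
    rcases hsp.mem_or_mem this with h | h
    · exact has (hsp.mem_of_pow_mem _ h)
    · exact hα (hsp.mem_of_pow_mem _ h)
  · -- I' kills g
    intro i hi
    rw [Ideal.map] at hi
    induction hi using Submodule.span_induction with
    | mem x hx =>
      obtain ⟨i, hi, rfl⟩ := hx
      obtain ⟨n, hn⟩ := hann i hi
      have h2 : (algebraMap A A' a) ^ n • ((algebraMap A A' i) • algebraMap B B' g) =
          algebraMap B B' (a ^ n • i • g) := by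
        rw [← map_pow, algebraMap_smul_model, algebraMap_smul_model, Algebra.smul_def,
          Algebra.smul_def (A := B'), Algebra.smul_def, Algebra.smul_def, map_mul, map_mul,
          ← IsScalarTower.algebraMap_apply, ← IsScalarTower.algebraMap_apply]
      rw [hn, map_zero] at h2
      exact (IsUnit.smul_eq_zero (hu.pow n)).mp h2
    | zero => rw [zero_smul]
    | add x y _ _ hx hy => rw [add_smul, hx, hy, add_zero]
    | smul c x _ hx => rw [smul_eq_mul, mul_smul, hx, smul_zero]
  · -- finiteness
    have h1 := model_span_sup_eq_top (A' := A') (B' := B') a T gens J hgens h1T hstar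
    have h2 := sup_pow_smul_top_eq_top _ _ h1 N
    rw [← Ideal.map_pow] at h2
    exact finite_quotient_of_span_sup _ ((T.finite_toSet).image _) _ h2

end Groth.Agent.Lib.Helper29.FlatLqf
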