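import Groth.Agent.Lib.Helper29.FlatLqf.Hom

/-!
# Scheme-level localization models on basic opens (helper29, for S1480)
-/

set_option autoImplicit false
universe u

namespace Groth.Agent.Lib.Helper29.FlatLqf

open AlgebraicGeometry CategoryTheory Limits in
/-- model conditions for basic opens -/
theorem model_conditions {X S : Scheme.{u}} (f : X ⟶ S) {U : S.Opens} (hU : IsAffineOpen U)
    {V : X.Opens} (hV : IsAffineOpen V) (e : V ≤ f ⁻¹ᵁ U) (a : Γ(S, U)) :
    ∃ (e' : X.basicOpen ((f.appLE U V e).hom a) ≤ f ⁻¹ᵁ S.basicOpen a),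
      (f.appLE (S.basicOpen a) (X.basicOpen ((f.appLE U V e).hom a)) e').hom.comp
          (S.presheaf.map (homOfLE (S.basicOpen_le a)).op).hom =
        (X.presheaf.map (homOfLE (X.basicOpen_le ((f.appLE U V e).hom a))).op).hom.comp
          (f.appLE U V e).hom ∧
      (letI := (S.presheaf.map (homOfLE (S.basicOpen_le a)).op).hom.toAlgebra
       IsLocalization.Away a Γ(S, S.basicOpen a)) ∧
      (letI := (X.presheaf.map (homOfLE (X.basicOpen_le ((f.appLE U V e).hom a))).op).hom.toAlgebra
       IsLocalization.Away ((f.appLE U V e).hom a)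
        Γ(X, X.basicOpen ((f.appLE U V e).hom a))) := by
  have e' : X.basicOpen ((f.appLE U V e).hom a) ≤ f ⁻¹ᵁ S.basicOpen a := by
    have := Scheme.basicOpen_appLE f V U e a
    rw [show X.basicOpen ((f.appLE U V e).hom a) = _ from this]
    exact inf_le_right
  refine ⟨e', ?_, hU.isLocalization_basicOpen a, hV.isLocalization_basicOpen _⟩
  rw [← CommRingCat.hom_comp, ← CommRingCat.hom_comp, Scheme.Hom.map_appLE, Scheme.Hom.appLE_map]

end Groth.Agent.Lib.Helper29.FlatLqf
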